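import Cfsg.Agent.H115.Tits.StmtsB
import Cfsg.Agent.H115.Tits.TabNum
import Cfsg.Agent.H270.Tits.OrdA

/-!
# S3414: groups of type `PSL_d(q)`, `d ≥ 3` (pieces TAB1b and PSL-NUM)

`|L| = (s+1) s T` divides `2 f |PGL_d(q)|`; a primitive prime divisor of `p ^ (f (d-1)) - 1` divides `s`, but not `T`.
-/

set_option autoImplicit false

namespace Cfsg.Agent.H95.Tits

open Subgroup Finset Cfsg.Agent.H873.Tits Cfsg.Agent.H163.PG Cfsg.Agent.H115.Tits

universe u v

/-! ### The order of `L` -/

/-- the order of a group of type `PSL_d(q)` divides `2 f |PGL_d(q)|` -/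
theorem card_dvd {Ω : Type v} [Finite Ω] (L : Subgroup (Equiv.Perm Ω)) {p d f : ℕ} (h : PSLType L p d f) :
    Nat.card L ∣ 2 * f * ((p ^ f) ^ (d * (d - 1) / 2) * ∏ i ∈ range (d - 1), ((p ^ f) ^ (i + 2) - 1)) := by
  obtain ⟨hd, hf, hp, -, X, hXL, hXn, hmin, F, _, _, hF, ⟨e⟩⟩ := h
  have hN := hXn
  have hfact : Fact p.Prime := ⟨hp⟩
  have e' : ↥(X.subgroupOf L) ≃* Matrix.ProjectiveSpecialLinearGroup (Fin d) F := (subgroupOfEquivOfLe hXL).trans e
  have hs : IsSimpleGroup (Matrix.ProjectiveSpecialLinearGroup (Fin d) F) := S0249.result d hd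
  have hfin : Finite (Matrix.ProjectiveSpecialLinearGroup (Fin d) F) := finite_psl d
  have hcent : centralizer ((X.subgroupOf L : Subgroup L) : Set L) = ⊥ := by
    by_contra hne
    have h1 := hmin ((centralizer ((X.subgroupOf L : Subgroup L) : Set L)).map L.subtype) (map_subtype_le _) (by
      rw [← comap_subtype, comap_map_eq_self_of_injective (subtype_injective L)]
      infer_instance) (fun h => hne ((map_eq_bot_iff_of_injective _ (subtype_injective L)).1 h))
    have hcomm : ∀ a b : ↥(X.subgroupOf L), a * b = b * a := by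
      intro a b
      apply Subtype.ext
      obtain ⟨c, hc1, hc2⟩ := h1 (mem_subgroupOf.1 a.2)
      have hca : c = a.1 := subtype_injective L hc2
      have := mem_centralizer_iff.1 hc1 b.1 b.2
      rw [hca] at this
      exact this.symm
    have hcomm' : ∀ a b : Matrix.ProjectiveSpecialLinearGroup (Fin d) F, a * b = b * a := by
      intro a b
      apply e'.symm.injective
      rw [map_mul, map_mul]
      exact hcomm _ _
    let _ : CommGroup (Matrix.ProjectiveSpecialLinearGroup (Fin d) F) := { (inferInstance : Group _) with mul_comm := hcomm' }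
    have hpr := IsSimpleGroup.prime_card (α := Matrix.ProjectiveSpecialLinearGroup (Fin d) F)
    have hpr' : (Nat.card (Matrix.ProjectiveSpecialLinearGroup (Fin d) F)).Prime := hpr
    -- the characteristic and a primitive prime divisor (or the order) divide
    have h2 := card_psl (F := F) (n := d) (by omega)
    rw [hF] at h2
    have hp2 := hp.two_le
    have hq2 : 2 ≤ p ^ f := hp2.trans (Nat.le_self_pow (by omega) p)
    have hpc : p ∣ Nat.card (Matrix.ProjectiveSpecialLinearGroup (Fin d) F) := char_dvd_psl hp hf hF (by omega)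
    have hpe : Nat.card (Matrix.ProjectiveSpecialLinearGroup (Fin d) F) = p :=
      ((Nat.prime_dvd_prime_iff_eq hp hpr').1 hpc).symm
    rw [hpe] at h2
    -- `q ^ 3` divides the right side, `gcd` is prime to `p`
    have h3 : p ^ 2 ∣ Nat.gcd d (p ^ f - 1) * p := by
      rw [h2]
      refine Dvd.dvd.mul_right ?_ _
      rw [← pow_mul]
      apply pow_dvd_pow
      have h4 : 3 ≤ d * (d - 1) / 2 := by
        rw [Nat.le_div_iff_mul_le (by norm_num)]
        calc 3 * 2 ≤ 3 * (d - 1) := Nat.mul_le_mul_left _ (by omega)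
          _ ≤ d * (d - 1) := Nat.mul_le_mul_right _ hd
      calc 2 ≤ 3 := by norm_num
        _ ≤ d * (d - 1) / 2 := h4
        _ ≤ f * (d * (d - 1) / 2) := Nat.le_mul_of_pos_left _ hf
    have h4 : p ∣ Nat.gcd d (p ^ f - 1) := by
      rw [sq] at h3
      exact Nat.dvd_of_mul_dvd_mul_right hp.pos h3
    have h5 : p ∣ p ^ f - 1 := h4.trans (Nat.gcd_dvd_right _ _)
    have h6 : p ∣ p ^ f := dvd_pow_self p (by omega)
    have h7 : p ∣ 1 := by
      have := Nat.dvd_sub h6 h5
      rwa [Nat.sub_sub_self (by omega)] at this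
    exact hp.one_lt.ne' (Nat.dvd_one.1 h7)
  have h2 := Cfsg.Agent.Omega.TwoF.Rk.card_dvd (X.subgroupOf L) e' hcent
  rw [S0813.result p f hf hF d (by omega) (fun h => by omega), if_neg (by omega), card_pgl (by omega),
    card_psl (by omega), hF] at h2
  exact h2

/-- the order of a 2-transitive group -/
theorem card_stb {Ω : Type v} [Finite Ω] {L : Subgroup (Equiv.Perm Ω)} (h : TwoTr L) {s : ℕ} (hΩ : Nat.card Ω = s + 1)
    {a b : Ω} (hab : a ≠ b) : Nat.card L = (s + 1) * s * Nat.card ↥(Stb L a ⊓ Stb L b) := by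
  classical
  have h1 := (MulAction.stabilizer L (a, b)).card_mul_index
  have h2 : MulAction.orbit L (a, b) = {x : Ω × Ω | x.1 ≠ x.2} := by
    ext ⟨x, y⟩
    constructor
    · rintro ⟨g, hg⟩
      have e1 : g • a = x := congrArg Prod.fst hg
      have e2 : g • b = y := congrArg Prod.snd hg
      intro h3
      have h4 : x = y := h3
      rw [← e1, ← e2] at h4
      exact hab (smul_left_cancel g h4)
    · intro hxy
      obtain ⟨g, hg, h4, h5⟩ := h a b x y hab hxy
      exact ⟨⟨g, hg⟩, Prod.ext h4 h5⟩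
  have h3 : ({x : Ω × Ω | x.1 ≠ x.2} : Set (Ω × Ω)).ncard = (s + 1) * s := by
    have h4 : ({x : Ω × Ω | x.1 ≠ x.2} : Set (Ω × Ω)) = (Set.range fun x : Ω => (x, x))ᶜ := by
      ext ⟨x, y⟩
      constructor
      · rintro hxy ⟨z, hz⟩
        exact hxy ((congrArg Prod.fst hz).symm.trans (congrArg Prod.snd hz))
      · intro hxy h5
        have h6 : x = y := h5
        exact hxy ⟨x, by rw [h6]⟩
    have h5 : (Set.range fun x : Ω => (x, x)).ncard = s + 1 := by
      rw [← Set.image_univ, Set.ncard_image_of_injective _ (fun x y hxy => congrArg Prod.fst hxy), Set.ncard_univ, hΩ]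
    rw [h4, Set.ncard_compl, h5, Nat.card_prod, hΩ]
    rw [Nat.mul_succ, Nat.add_sub_cancel]
  have h4 : (MulAction.stabilizer L (a, b)).map L.subtype = Stb L a ⊓ Stb L b := by
    ext g
    constructor
    · rintro ⟨⟨g, hg⟩, hgs, rfl⟩
      have h5 := MulAction.mem_stabilizer_iff.1 hgs
      exact ⟨⟨hg, congrArg Prod.fst h5⟩, ⟨hg, congrArg Prod.snd h5⟩⟩
    · rintro ⟨⟨hg, h5⟩, ⟨-, h6⟩⟩
      exact ⟨⟨g, hg⟩, MulAction.mem_stabilizer_iff.2 (Prod.ext h5 h6), rfl⟩
  have h5 : Nat.card ↥((MulAction.stabilizer L (a, b)).map L.subtype) = Nat.card (MulAction.stabilizer L (a, b)) :=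
    Nat.card_congr ((MulAction.stabilizer L (a, b)).equivMapOfInjective L.subtype L.subtype_injective).toEquiv.symm
  rw [← h4, h5, ← h1, MulAction.index_stabilizer, h2, h3, mul_comm]

/-! ### Arithmetic -/

theorem num {p f d q s T : ℕ} (hp : p.Prime) (hf : 1 ≤ f) (hq : q = p ^ f) (hd : 3 ≤ d)
    (hs : (s + 1) * (q - 1) = q ^ d - 1)
    (h : (s + 1) * s * T ∣ 2 * f * (q ^ (d * (d - 1) / 2) * ∏ i ∈ range (d - 1), (q ^ (i + 2) - 1))) :
    (∃ r : ℕ, r.Prime ∧ r ≠ p ∧ r ≠ 2 ∧ r ∣ s ∧ ¬ r ∣ T) ∨ (d = 3 ∧ f = 1 ∧ ∃ k, p + 1 = 2 ^ k) ∨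
      (d = 3 ∧ f = 3 ∧ p = 2 ∧ s = 72 ∧ T.factorization 3 ≤ 1) ∨ (d = 7 ∧ f = 1 ∧ p = 2) := by
  have hp2 := hp.two_le
  have hq2 : 2 ≤ q := by
    rw [hq]
    calc 2 ≤ p := hp2
      _ = p ^ 1 := (pow_one p).symm
      _ ≤ p ^ f := Nat.pow_le_pow_right (by omega) hf
  have hpow : ∀ k, 1 ≤ k → 2 ≤ q ^ k := fun k hk =>
    hq2.trans (Nat.le_self_pow (by omega) q)
  have hsq : s * (q - 1) = q * (q ^ (d - 1) - 1) := by
    have h1 : q * q ^ (d - 1) = q ^ d := by rw [← pow_succ', Nat.sub_add_cancel (by omega)]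
    have h2 := hpow d (by omega)
    have h3 := hpow (d - 1) (by omega)
    have h4 : q * (q ^ (d - 1) - 1) = q ^ d - q := by rw [Nat.mul_sub, h1, mul_one]
    rw [h4]
    rw [add_mul, one_mul] at hs
    omega
  have hs0 : s ≠ 0 := by
    rintro rfl
    have h3 := hpow (d - 1) (by omega)
    rw [zero_mul] at hsq
    have : 0 < q * (q ^ (d - 1) - 1) := Nat.mul_pos (by omega) (by omega)
    omega
  have hss : s * T ∣ 2 * f * (q ^ (d * (d - 1) / 2) * ∏ i ∈ range (d - 1), (q ^ (i + 2) - 1)) := by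
    refine Dvd.dvd.trans ?_ h
    rw [mul_assoc]
    exact Dvd.intro_left _ rfl
  have hprod0 : ∀ i, q ^ (i + 2) - 1 ≠ 0 := fun i => by
    have := hpow (i + 2) (by omega)
    omega
  have hN0 : 2 * f * (q ^ (d * (d - 1) / 2) * ∏ i ∈ range (d - 1), (q ^ (i + 2) - 1)) ≠ 0 :=
    mul_ne_zero (by omega) (mul_ne_zero (pow_ne_zero _ (by omega)) (Finset.prod_ne_zero_iff.2 fun i _ => hprod0 i))
  have hT0 : T ≠ 0 := by
    rintro rfl
    rw [mul_zero, zero_dvd_iff] at hss
    exact hN0 hss
  -- the case with a primitive prime divisor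
  by_cases hr : ∃ r, Ppd p (f * (d - 1)) r
  · left
    obtain ⟨r, hr⟩ := hr
    have hfd : 2 ≤ f * (d - 1) := le_trans (by omega) (Nat.le_mul_of_pos_left (d - 1) hf)
    have hrq : ¬ r ∣ q := by
      rw [hq]
      exact fun h' => hr.not_dvd (by omega) (hr.prime.dvd_of_dvd_pow h')
    have hiff : ∀ k, r ∣ q ^ k - 1 ↔ (d - 1) ∣ k := by
      intro k
      rw [hq, ← pow_mul, hr.dvd_iff (by omega)]
      exact Nat.mul_dvd_mul_iff_left hf
    have h1 : r ∣ q ^ (d - 1) - 1 := (hiff _).2 dvd_rfl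
    have hq1 : ¬ r ∣ q - 1 := by
      have := (hiff 1).not.2 (fun h' => by
        have := Nat.le_of_dvd one_pos h'
        omega)
      rwa [pow_one] at this
    have h2 : s.factorization r = (q ^ (d - 1) - 1).factorization r := by
      have h3 := congrArg (fun n => Nat.factorization n r) hsq
      have h4 := hpow (d - 1) (by omega)
      rw [Nat.factorization_mul hs0 (by omega), Nat.factorization_mul (by omega) (by omega), Finsupp.add_apply,
        Finsupp.add_apply, Nat.factorization_eq_zero_of_not_dvd hq1, Nat.factorization_eq_zero_of_not_dvd hrq] at h3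
      omega
    have hrs : r ∣ s := by
      have h3 : r ∣ s * (q - 1) := by
        rw [hsq]
        exact h1.mul_left _
      exact (hr.prime.dvd_mul.1 h3).resolve_right hq1
    refine ⟨r, hr.prime, hr.ne (by omega), hr.ne_two hfd, hrs, ?_⟩
    intro hrT
    have hr2 : ¬ r ∣ 2 * f := by
      intro h'
      rcases hr.prime.dvd_mul.1 h' with h' | h'
      · exact hr.ne_two hfd ((Nat.prime_dvd_prime_iff_eq hr.prime Nat.prime_two).1 h')
      · exact hr.not_dvd_mul (Nat.le_mul_of_pos_right f (by omega)) hf h'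
    have h3 : (s * T).factorization r ≤ (2 * f * (q ^ (d * (d - 1) / 2) * ∏ i ∈ range (d - 1), (q ^ (i + 2) - 1))).factorization r :=
      (Nat.factorization_le_iff_dvd (mul_ne_zero hs0 hT0) hN0).2 hss r
    rw [Nat.factorization_mul hs0 hT0, Finsupp.add_apply, h2, Nat.factorization_mul (by omega)
      (mul_ne_zero (pow_ne_zero _ (by omega)) (Finset.prod_ne_zero_iff.2 fun i _ => hprod0 i)),
      Nat.factorization_mul (pow_ne_zero _ (by omega)) (Finset.prod_ne_zero_iff.2 fun i _ => hprod0 i),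
      Finsupp.add_apply, Finsupp.add_apply, Nat.factorization_eq_zero_of_not_dvd hr2,
      Nat.factorization_eq_zero_of_not_dvd (fun h' => hrq (hr.prime.dvd_of_dvd_pow h')), zero_add, zero_add] at h3
    have h5 := factorization_prod_le (r := r) (k := d - 1) (j := d - 3) (fun i => q ^ (i + 2) - 1) hprod0 (by
      intro i hi hij h'
      rw [hiff] at h'
      rw [Finset.mem_range] at hi
      obtain ⟨c, hc⟩ := h'
      have hc0 : c ≠ 0 := by
        rintro rfl
        omega
      have hc1 : c = 1 := by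
        by_contra hc1
        have : (d - 1) * 2 ≤ (d - 1) * c := Nat.mul_le_mul_left _ (by omega)
        omega
      subst hc1
      omega)
    rw [show d - 3 + 2 = d - 1 by omega] at h5
    have h6 : 1 ≤ T.factorization r := (hr.prime.dvd_iff_one_le_factorization hT0).1 hrT
    omega
  · -- the exceptions
    by_cases h3 : 3 ≤ f * (d - 1)
    · have h6 : p = 2 ∧ f * (d - 1) = 6 := by
        by_contra h6
        exact hr (Ppd.exists hp2 h3 h6)
      obtain ⟨rfl, h6⟩ := h6
      have hd6 : d - 1 ∣ 6 := Dvd.intro_left _ h6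
      have hd7 : d - 1 ≤ 6 := Nat.le_of_dvd (by norm_num) hd6
      have hd4 : d - 1 = 2 ∨ d - 1 = 3 ∨ d - 1 = 6 := by
        have h7 : 2 ≤ d - 1 := by omega
        generalize d - 1 = e at *
        interval_cases e <;> simp_all
      rcases hd4 with hd4 | hd4 | hd4
      · right; right; left
        have hf3 : f = 3 := by rw [hd4] at h6; omega
        have hd' : d = 3 := by omega
        subst hf3 hd' hq
        have hs72 : s = 72 := by norm_num at hsq; omega
        subst hs72
        refine ⟨rfl, rfl, rfl, rfl, ?_⟩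
        have h7 : 72 * T ∣ 2 ^ 10 * (189 * 511) := by
          refine dvd_trans hss (dvd_of_eq ?_)
          simp only [Finset.prod_range_succ, Finset.prod_range_zero]
          norm_num
        by_contra hcon
        have h9 : 3 ^ 2 ∣ T := (Nat.prime_three.pow_dvd_iff_le_factorization hT0).2 (by omega)
        obtain ⟨c, rfl⟩ := h9
        have h10 : 3 ^ 4 ∣ 2 ^ 10 * (189 * 511) := by
          refine dvd_trans ?_ h7
          exact ⟨8 * c, by ring⟩
        norm_num at h10
      · left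
        have hf3 : f = 2 := by rw [hd4] at h6; omega
        have hd' : d = 4 := by omega
        subst hf3 hd' hq
        have hs72 : s = 84 := by norm_num at hsq; omega
        subst hs72
        refine ⟨7, by norm_num, by norm_num, by norm_num, by norm_num, ?_⟩
        rintro ⟨c, rfl⟩
        have h7 : 84 * (7 * c) ∣ 2 * 2 * ((2 ^ 2) ^ 6 * (15 * 63 * 255)) := by
          refine dvd_trans hss (dvd_of_eq ?_)
          simp only [Finset.prod_range_succ, Finset.prod_range_zero]
          norm_num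
        have h10 : 7 ^ 2 ∣ 2 * 2 * ((2 ^ 2) ^ 6 * (15 * 63 * 255)) := by
          refine dvd_trans ?_ h7
          exact ⟨12 * c, by ring⟩
        norm_num at h10
      · right; right; right
        have hf3 : f = 1 := by rw [hd4] at h6; omega
        exact ⟨by omega, hf3, rfl⟩
    · right; left
      have hfd : f * (d - 1) = 2 := by
        have := Nat.le_mul_of_pos_left (d - 1) hf
        omega
      have hd' : d = 3 := by
        have := Nat.le_mul_of_pos_left (d - 1) hf
        omega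
      subst hd'
      have hf1 : f = 1 := by omega
      subst hf1
      refine ⟨rfl, rfl, ?_⟩
      by_contra hm
      exact hr (Ppd.exists_two hp2 hm)

/-! ### The pieces -/

theorem main {Ω : Type v} [Finite Ω] {L : Subgroup (Equiv.Perm Ω)} (h2 : TwoTr L) {s : ℕ} (hΩ : Nat.card Ω = s + 1)
    {a b : Ω} (hab : a ≠ b) {p d f : ℕ} (h : PSLType L p d f) :
    (∃ r : ℕ, r.Prime ∧ r ≠ p ∧ r ≠ 2 ∧ r ∣ s ∧ ¬ r ∣ Nat.card ↥(Stb L a ⊓ Stb L b)) ∨
      (d = 3 ∧ f = 1 ∧ ∃ k, p + 1 = 2 ^ k) ∨
      (d = 3 ∧ f = 3 ∧ p = 2 ∧ s = 72 ∧ (Nat.card ↥(Stb L a ⊓ Stb L b)).factorization 3 ≤ 1) ∨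
      (d = 7 ∧ f = 1 ∧ p = 2) := by
  have hc := h.2.2.2.1
  rw [hΩ] at hc
  refine num h.2.2.1 h.2.1 rfl h.1 hc ?_
  rw [← card_stb h2 hΩ hab]
  exact card_dvd L h

/-- **TAB1b** -/
theorem st_tab1b : StTab1b.{v} := by
  intro Ω _ L s p a b Q hQ d f hP hv
  have hs0 : s ≠ 0 := by
    have := hQ.two_le
    omega
  rcases main hQ.two hQ.card hQ.ne hP with ⟨r, h1, h2, h3, h4, h5⟩ | h1 | ⟨-, -, h2, h3, h4⟩ | h1
  · exfalso
    have h6 := hv r h1 h2 h3
    rw [Nat.factorization_eq_zero_of_not_dvd h5] at h6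
    have h7 := (h1.dvd_iff_one_le_factorization hs0).1 h4
    omega
  · exact Or.inl h1
  · exfalso
    have h6 := hv 3 Nat.prime_three (by omega) (by omega)
    have h7 : 2 ≤ s.factorization 3 := by
      rw [← Nat.prime_three.pow_dvd_iff_le_factorization hs0, h3]
      norm_num
    omega
  · exact Or.inr h1

/-- **PSL-NUM** -/
theorem st_pslNum : StPslNum.{v} := by
  intro Ω _ L p d f a b h2 hab hP
  have hpos : 0 < Nat.card Ω := Nat.card_pos_iff.2 ⟨⟨a⟩, inferInstance⟩
  rcases main h2 (s := Nat.card Ω - 1) (by omega) hab hP with ⟨r, h1, h2, -, h4, h5⟩ | h1 | ⟨h1, h2, h3, -, -⟩ | h1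
  · exact Or.inl ⟨r, h1, h2, h4, h5⟩
  · exact Or.inr (Or.inl h1)
  · exact Or.inr (Or.inr (Or.inl ⟨h1, h2, h3⟩))
  · exact Or.inr (Or.inr (Or.inr h1))

end Cfsg.Agent.H95.Tits
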